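import Mathlib
import Groth.Agent.Lib.Hens.Colim
import Groth.Agent.Lib.Hens.Pair

/-!
# The residue field of a strict henselization, and unramified points

For a prime `q` of a ring the colimit of the étale neighbourhoods of an algebraically closed point
over `q` has a residue field over which that field is purely inseparable. Points of an unramified
algebra do not enlarge a subfield over which the ambient field is purely inseparable.
-/

universe u

set_option autoImplicit false

open TensorProduct Polynomial

namespace Groth.Agent.EtGrpd19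

open Groth.Agent.Hens

/-- Points of an unramified algebra lie in any subfield containing the base point over which the
field is purely inseparable. -/
theorem mem_of_formallyUnramified {A A' Ω : Type u} [CommRing A] [CommRing A'] [Algebra A A']
    [Algebra.FormallyUnramified A A'] [Algebra.EssFiniteType A A'] [Field Ω] (p : ℕ) [ExpChar Ω p]
    (L : Subfield Ω) (hL : ∀ z : Ω, ∃ n : ℕ, z ^ p ^ n ∈ L) (y : A' →+* Ω)
    (hy : ∀ a, y (algebraMap A A' a) ∈ L) (a' : A') : y a' ∈ L := by
  let xA : A →+* L := (y.comp (algebraMap A A')).codRestrict L hy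
  let W := Ω ⊗[L] Ω
  let _ : Algebra A W := ((algebraMap L W).comp xA).toAlgebra
  let f : A' →ₐ[A] W :=
    { (Algebra.TensorProduct.includeLeft : Ω →ₐ[L] W).toRingHom.comp y with
      commutes' := fun a => (Algebra.TensorProduct.includeLeft : Ω →ₐ[L] W).commutes (xA a) }
  let g : A' →ₐ[A] W :=
    { (Algebra.TensorProduct.includeRight : Ω →ₐ[L] W).toRingHom.comp y with
      commutes' := fun a => (Algebra.TensorProduct.includeRight : Ω →ₐ[L] W).commutes (xA a) }
  obtain ⟨l, hl⟩ := LinearMap.exists_leftInverse_of_injective (Algebra.linearMap L Ω)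
    (LinearMap.ker_eq_bot.2 (algebraMap L Ω).injective)
  haveI : ExpChar L p := (RingHom.expChar_iff (algebraMap L Ω) (algebraMap L Ω).injective p).2 ‹_›
  have hinj : Function.Injective (algebraMap L W) := RingHom.injective _
  haveI : ExpChar W p := expChar_of_injective_ringHom hinj p
  have hfg : f = g := by
    refine algHom_ext_of_le_jacobson (J := nilradical W)
      (fun x hx => (Ideal.mem_sInf.2 fun m hm => hm.2.isPrime.mem_of_pow_mem _
        ((mem_nilradical.1 hx).choose_spec ▸ m.zero_mem))) fun x => ?_
    obtain ⟨n, hn⟩ := hL (y x)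
    refine mem_nilradical.2 ⟨p ^ n, ?_⟩
    rw [sub_pow_expChar_pow, sub_eq_zero]
    show ((y x) ⊗ₜ[L] (1 : Ω)) ^ p ^ n = ((1 : Ω) ⊗ₜ[L] (y x)) ^ p ^ n
    rw [Algebra.TensorProduct.tmul_pow, Algebra.TensorProduct.tmul_pow, one_pow]
    exact ((Algebra.TensorProduct.includeLeft : Ω →ₐ[L] W).commutes ⟨_, hn⟩).trans
      ((Algebra.TensorProduct.includeRight : Ω →ₐ[L] W).commutes ⟨_, hn⟩).symm
  have h := congrArg (fun φ : A' →ₐ[A] W => TensorProduct.lid L Ω (l.rTensor Ω (φ a'))) hfg
  have h1 : l 1 = 1 := by simpa using LinearMap.congr_fun hl 1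
  simp only [f, g, AlgHom.coe_mk, RingHom.coe_comp, AlgHom.toRingHom_eq_coe, RingHom.coe_coe,
    Function.comp_apply, Algebra.TensorProduct.includeLeft_apply, Algebra.TensorProduct.includeRight_apply,
    LinearMap.rTensor_tmul, TensorProduct.lid_tmul, h1, one_smul] at h
  rw [← h, Subfield.smul_def, smul_eq_mul, mul_one]
  exact (l (y a')).2

variable {C : Type u} [CommRing C] (q : Ideal C) [q.IsPrime]

/-- The geometric point. -/
abbrev Pt : Type u := AlgebraicClosure q.ResidueField

/-- The residue field of the colimit of neighbourhoods, as a subfield of the geometric point. -/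
noncomputable def resField : Subfield (Pt q) where
  toSubring := (Hs.res : Hs C (Pt q) →ₐ[C] Pt q).toRingHom.range
  inv_mem' := by
    rintro _ ⟨d, rfl⟩
    rcases eq_or_ne (Hs.res d) 0 with h | h
    · exact ⟨0, by simp [h]⟩
    · obtain ⟨v, rfl⟩ := (Hs.isUnit_iff d).2 h
      exact ⟨↑v⁻¹, (eq_inv_of_mul_eq_one_left (by
        rw [← map_mul, Units.inv_mul, map_one]))⟩

theorem residueField_mem (z : q.ResidueField) : algebraMap q.ResidueField (Pt q) z ∈ resField q := by
  obtain ⟨⟨n, hn⟩⟩ : Nonempty (∃ a : C, ∃ d ∈ q.primeCompl, z * algebraMap C q.ResidueField d = algebraMap C q.ResidueField a) := by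
    obtain ⟨w, rfl⟩ := Ideal.Quotient.mk_surjective (I := IsLocalRing.maximalIdeal (Localization.AtPrime q)) z
    obtain ⟨a, ⟨d, hd⟩, rfl⟩ := IsLocalization.exists_mk'_eq q.primeCompl w
    refine ⟨a, d, hd, ?_⟩
    have := congrArg (algebraMap (Localization.AtPrime q) q.ResidueField)
      (IsLocalization.mk'_spec (Localization.AtPrime q) a (⟨d, hd⟩ : q.primeCompl))
    rw [map_mul, ← IsScalarTower.algebraMap_apply, ← IsScalarTower.algebraMap_apply] at this
    exact this
  obtain ⟨d, hd, h⟩ := hn
  have h' := congrArg (algebraMap q.ResidueField (Pt q)) h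
  rw [map_mul, ← IsScalarTower.algebraMap_apply, ← IsScalarTower.algebraMap_apply] at h'
  have hne : algebraMap C (Pt q) d ≠ 0 := by
    rw [IsScalarTower.algebraMap_apply C q.ResidueField (Pt q), _root_.map_ne_zero]
    exact fun h0 => hd ((Ideal.algebraMap_residueField_eq_zero).1 h0)
  rw [eq_div_of_mul_eq hne h']
  have hC : ∀ c, algebraMap C (Pt q) c ∈ resField q := fun c => ⟨algebraMap C _ c, AlgHom.commutes _ c⟩
  exact div_mem (hC _) (hC _)

theorem separable_mem {b : Pt q} (hb : IsSeparable q.ResidueField b) : b ∈ resField q := by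
  have hlift : (minpoly q.ResidueField b).map (algebraMap q.ResidueField (Pt q)) ∈
      Polynomial.lifts (Hs.res : Hs C (Pt q) →ₐ[C] Pt q).toRingHom := by
    rw [Polynomial.lifts_iff_coeff_lifts]
    exact fun n => by rw [coeff_map]; exact residueField_mem q _
  obtain ⟨f, hf, -, hm⟩ := lifts_and_degree_eq_and_monic hlift ((minpoly.monic hb.isIntegral).map _)
  obtain ⟨a, -, ha⟩ := Hs.exists_root f hm b
    (by rw [hf, eval_map, ← aeval_def, minpoly.aeval])
    (by
      rw [hf, derivative_map, eval_map, ← aeval_def]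
      exact hb.aeval_derivative_ne_zero (minpoly.aeval _ _))
  exact ⟨a, ha⟩

theorem exists_pow_mem (p : ℕ) [ExpChar (Pt q) p] (z : Pt q) : ∃ n : ℕ, z ^ p ^ n ∈ resField q := by
  haveI : ExpChar q.ResidueField p :=
    (RingHom.expChar_iff (algebraMap q.ResidueField (Pt q)) (RingHom.injective _) p).2 ‹_›
  obtain ⟨n, w, hw⟩ := (isPurelyInseparable_iff_pow_mem (F := separableClosure q.ResidueField (Pt q)) p).1
    (separableClosure.isPurelyInseparable q.ResidueField (Pt q)) z
  exact ⟨n, hw ▸ separable_mem q (mem_separableClosure_iff.1 w.2)⟩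

end Groth.Agent.EtGrpd19
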