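import Mathlib

/-!
# Equivariant sections of étale morphisms of groupoids

An equivariant section, over a flat `C`-algebra `D`, of an étale cartesian morphism of affine
groupoids gives a map from the invariants `C'` to `D` which is a localization of `C' ⊗[C] D` at an
idempotent, and along which the square of quotient maps is cartesian.
-/

universe u

set_option autoImplicit false

open TensorProduct

namespace Groth.Agent.EtGrpd19

variable {C A A' B B' : Type u} [CommRing C] [CommRing A] [CommRing A'] [CommRing B] [CommRing B']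
  [Algebra C A] [Algebra A A'] [Algebra C A'] [IsScalarTower C A A'] [Algebra C B] [Algebra C B']

/-- The square `(s, s', h)` is a cocartesian square of rings (on points). -/
structure CartSq (s : A →ₐ[C] B) (s' : A' →ₐ[C] B') (h : B →ₐ[C] B') : Prop where
  comm : ∀ a, s' (algebraMap A A' a) = h (s a)
  lift : ∀ (L : Type u) [CommRing L] (φ : B →+* L) (y : A' →+* L),
    (∀ a, y (algebraMap A A' a) = φ (s a)) → ∃ φ' : B' →+* L, (∀ b, φ' (h b) = φ b) ∧ ∀ a', φ' (s' a') = y a'
  ext : ∀ (L : Type u) [CommRing L] (φ₁ φ₂ : B' →+* L), (∀ b, φ₁ (h b) = φ₂ (h b)) →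
    (∀ a', φ₁ (s' a') = φ₂ (s' a')) → φ₁ = φ₂

variable (D : Type u) [CommRing D] [Algebra C D]

/-- Base change of a map to `D`. -/
noncomputable abbrev bD {X Y : Type u} [CommRing X] [CommRing Y] [Algebra C X] [Algebra C Y] (f : X →ₐ[C] Y) :
    X ⊗[C] D →ₐ[C] Y ⊗[C] D := Algebra.TensorProduct.map f (AlgHom.id C D)

/-- Elements of a flat base change with equal images come from the base change of the equalizer. -/
theorem exists_eq_of_flat [Module.Flat C D] {N M M' : Type u} [AddCommGroup N] [AddCommGroup M] [AddCommGroup M']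
    [Module C N] [Module C M] [Module C M'] (j : N →ₗ[C] M) (f g : M →ₗ[C] M')
    (hj : ∀ m, f m = g m ↔ m ∈ LinearMap.range j) {x : M ⊗[C] D}
    (hx : f.rTensor D x = g.rTensor D x) : ∃ y, j.rTensor D y = x := by
  have h : Function.Exact j (f - g) := fun m => by
    rw [LinearMap.sub_apply, sub_eq_zero, hj]
    rfl
  exact (Module.Flat.rTensor_exact D h x).1 (by rw [LinearMap.rTensor_sub, LinearMap.sub_apply, hx, sub_self])

/-- A flat base change of an injective map is injective. -/
theorem injective_bD [Module.Flat C D] {X Y : Type u} [CommRing X] [CommRing Y] [Algebra C X] [Algebra C Y]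
    (f : X →ₐ[C] Y) (hf : Function.Injective f) : Function.Injective (bD D f) := by
  have h : ⇑(bD D f) = ⇑(f.toLinearMap.rTensor D) := by
    funext x
    induction x using TensorProduct.induction_on with
    | zero => simp
    | tmul a d => simp
    | add a b ha hb => simp only [map_add, ha, hb]
  rw [h]
  exact Module.Flat.rTensor_preserves_injective_linearMap _ hf

theorem bD_eq_rTensor {X Y : Type u} [CommRing X] [CommRing Y] [Algebra C X] [Algebra C Y]
    (f : X →ₐ[C] Y) (x : X ⊗[C] D) : bD D f x = f.toLinearMap.rTensor D x := by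
  induction x using TensorProduct.induction_on with
  | zero => simp
  | tmul a d => simp
  | add a b ha hb => simp only [map_add, ha, hb]

variable {D}

/-- The extension of a point to the base change. -/
noncomputable abbrev extD {X Y : Type u} [CommRing X] [CommRing Y] [Algebra C X] [Algebra C Y]
    (σ : X →ₐ[C] Y ⊗[C] D) : X ⊗[C] D →ₐ[C] Y ⊗[C] D :=
  Algebra.TensorProduct.lift σ Algebra.TensorProduct.includeRight fun _ _ => .all _ _

/-- The kernel of the arrow-level section is generated by the pullback of the complementary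
idempotent. -/
theorem mem_span_of_ker {s : A →ₐ[C] B} {s' : A' →ₐ[C] B'} {h : B →ₐ[C] B'} (hsq : CartSq s s' h)
    (σ : A' →ₐ[C] A ⊗[C] D) (ρ : B' →ₐ[C] B ⊗[C] D) (hρh : ∀ b, ρ (h b) = b ⊗ₜ 1)
    (hρs : ∀ a', ρ (s' a') = bD D s (σ a')) (e : A' ⊗[C] D)
    (he : ∀ a', bD D (IsScalarTower.toAlgHom C A A') (σ a') * e = (a' ⊗ₜ 1) * e)
    {w : B' ⊗[C] D} (hw : extD ρ w = 0) : w ∈ Ideal.span {bD D s' (1 - e)} := by
  let I := Ideal.span ({bD D s' (1 - e)} : Set (B' ⊗[C] D))
  let mk : B' ⊗[C] D →ₐ[C] (B' ⊗[C] D) ⧸ I := Ideal.Quotient.mkₐ C I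
  suffices hh : mk = mk.comp ((bD D h).comp (extD ρ)) by
    have := AlgHom.congr_fun hh w
    rw [AlgHom.comp_apply, AlgHom.comp_apply, hw, map_zero, map_zero] at this
    exact Ideal.Quotient.eq_zero_iff_mem.1 this
  refine Algebra.TensorProduct.ext (AlgHom.coe_ringHom_injective (hsq.ext _ _ _ (fun b => ?_) fun a' => ?_)) ?_
  · simp [hρh]
  · have hcomm : ∀ z : A ⊗[C] D, bD D h (bD D s z) = bD D s' (bD D (IsScalarTower.toAlgHom C A A') z) := fun z => by
      induction z using TensorProduct.induction_on with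
      | zero => simp
      | tmul a d => simp [hsq.comm]
      | add a b ha hb => simp only [map_add, ha, hb]
    simp only [AlgHom.comp_apply, Algebra.TensorProduct.includeLeft_apply, RingHom.coe_coe, extD,
      Algebra.TensorProduct.lift_tmul, map_one, mul_one, hρs, hcomm]
    refine Ideal.Quotient.eq.2 (Ideal.mem_span_singleton'.2
      ⟨bD D s' ((a' ⊗ₜ 1) - bD D (IsScalarTower.toAlgHom C A A') (σ a')), ?_⟩)
    have e1 : ((a' ⊗ₜ 1) - bD D (IsScalarTower.toAlgHom C A A') (σ a')) * (1 - e) =
        (a' ⊗ₜ 1) - bD D (IsScalarTower.toAlgHom C A A') (σ a') := by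
      rw [mul_sub, mul_one, sub_mul, he, sub_self, sub_zero]
    calc _ = bD D s' (((a' ⊗ₜ 1) - bD D (IsScalarTower.toAlgHom C A A') (σ a')) * (1 - e)) := (map_mul _ _ _).symm
      _ = _ := by rw [e1, map_sub]; simp [bD]
  · ext d
    simp [mk, extD]

variable {s t : A →ₐ[C] B} {s' t' : A' →ₐ[C] B'} {h : B →ₐ[C] B'}
variable {C' : Type u} [CommRing C'] [Algebra C C'] [Algebra C' A'] [IsScalarTower C C' A']

/-- An equivariant section gives an étale chart of the invariants over which the square of quotient
maps is cartesian. -/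
theorem exists_chart (hs : CartSq s s' h) (ht : CartSq t t' h)
    (hC : ∀ a, s a = t a ↔ a ∈ Set.range (algebraMap C A)) (hCinj : Function.Injective (algebraMap C A))
    (hC' : ∀ a', s' a' = t' a' ↔ a' ∈ Set.range (algebraMap C' A'))
    (hC'inj : Function.Injective (algebraMap C' A')) [Algebra.Etale A A'] [Algebra.Etale C D]
    (σ : A' →ₐ[C] A ⊗[C] D) (hσA : ∀ a, σ (algebraMap A A' a) = a ⊗ₜ 1)
    (ρ : B' →ₐ[C] B ⊗[C] D) (hρh : ∀ b, ρ (h b) = b ⊗ₜ 1)
    (hρs : ∀ a', ρ (s' a') = bD D s (σ a')) (hρt : ∀ a', ρ (t' a') = bD D t (σ a')) :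
    ∃ ψ : C' →ₐ[C] D, (∀ c', σ (algebraMap C' A' c') = 1 ⊗ₜ ψ c') ∧ ψ.toRingHom.Etale ∧
      ∀ (_ : Algebra C' D) (_ : ∀ c', algebraMap C' D c' = ψ c'),
        ∃ η : A ⊗[C] D →ₐ[C] A' ⊗[C'] D,
          Function.Bijective η ∧ ∀ a d, η (a ⊗ₜ d) = algebraMap A A' a ⊗ₜ[C'] d := by
  haveI : Module.Flat C D := inferInstance
  let i : A →ₐ[C] A' := IsScalarTower.toAlgHom C A A'
  -- the induced map on invariants
  have hψ₀ : ∀ c', ∃ d : D, σ (algebraMap C' A' c') = 1 ⊗ₜ d := fun c' => by
    have e : bD D s (σ (algebraMap C' A' c')) = bD D t (σ (algebraMap C' A' c')) := by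
      rw [← hρs, ← hρt, (hC' _).2 ⟨c', rfl⟩]
    rw [bD_eq_rTensor, bD_eq_rTensor] at e
    obtain ⟨y, hy⟩ := exists_eq_of_flat D (Algebra.linearMap C A) s.toLinearMap t.toLinearMap
      (fun a => hC a) e
    refine ⟨TensorProduct.lid C D y, hy.symm.trans ?_⟩
    clear hy
    induction y using TensorProduct.induction_on with
    | zero => simp
    | tmul c d => simp [Algebra.algebraMap_eq_smul_one, TensorProduct.smul_tmul]
    | add a b ha hb => simp only [map_add, ha, hb, tmul_add]
  have hinj : Function.Injective (Algebra.TensorProduct.includeRight : D →ₐ[C] A ⊗[C] D) :=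
    Algebra.TensorProduct.includeRight_injective hCinj
  choose ψf hψf using hψ₀
  let ψ : C' →ₐ[C] D :=
    { toFun := ψf
      map_one' := hinj ((hψf 1).symm.trans (by simp [Algebra.TensorProduct.one_def]))
      map_zero' := hinj ((hψf 0).symm.trans (by simp))
      map_add' := fun a b => hinj ((hψf _).symm.trans (by simp [hψf, tmul_add]))
      map_mul' := fun a b => hinj ((hψf _).symm.trans (by simp [hψf, Algebra.TensorProduct.tmul_mul_tmul]))
      commutes' := fun c => hinj ((hψf _).symm.trans (by
        rw [← IsScalarTower.algebraMap_apply, AlgHom.commutes, AlgHom.commutes])) }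
  have hψ : ∀ c', σ (algebraMap C' A' c') = 1 ⊗ₜ ψ c' := hψf
  refine ⟨ψ, hψ, ?_⟩
  -- the idempotent
  obtain ⟨τ, hτ₁, hτ₂⟩ := Algebra.FormallyUnramified.iff_exists_tensorProduct.1
    (inferInstance : Algebra.FormallyUnramified A A')
  let σA : A' →ₐ[A] A ⊗[C] D := { σ.toRingHom with commutes' := hσA }
  let iA : A ⊗[C] D →ₐ[A] A' ⊗[C] D := Algebra.TensorProduct.map (Algebra.ofId A A') (AlgHom.id C D)
  have hi : ∀ z, iA z = bD D i z := fun z => by
    induction z using TensorProduct.induction_on with
    | zero => simp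
    | tmul a d => simp [iA, i, Algebra.ofId_apply]
    | add a b ha hb => simp only [map_add, ha, hb]
  let inA' : A' →ₐ[A] A' ⊗[C] D := Algebra.TensorProduct.includeLeft
  let Θ : A' ⊗[A] A' →ₐ[A] A' ⊗[C] D :=
    Algebra.TensorProduct.lift inA' (iA.comp σA) fun _ _ => .all _ _
  let e : A' ⊗[C] D := Θ τ
  have he : ∀ a', bD D i (σ a') * e = (a' ⊗ₜ 1) * e := fun a' => by
    have := congrArg Θ (hτ₁ a')
    rw [map_mul, map_zero, map_sub, sub_mul, sub_eq_zero] at this
    simpa [e, Θ, inA', hi, σA, ← Algebra.TensorProduct.one_def] using this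
  have hσi : ∀ z, extD σ (bD D i z) = z := fun z => by
    induction z using TensorProduct.induction_on with
    | zero => simp
    | tmul a d => simp [i, hσA]
    | add a b ha hb => simp only [map_add, ha, hb]
  have hσe : extD σ e = 1 := by
    have h₁ : ∀ z : A' ⊗[A] A', extD σ (Θ z) = σ (Algebra.TensorProduct.lmul' A z) := fun z => by
      induction z using TensorProduct.induction_on with
      | zero => simp
      | tmul a b =>
        simp only [Θ, Algebra.TensorProduct.lift_tmul, map_mul, AlgHom.comp_apply, hi, hσi,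
          Algebra.TensorProduct.lmul'_apply_tmul]
        simp [inA', σA, ← Algebra.TensorProduct.one_def]
      | add a b ha hb => simp only [map_add, ha, hb]
    rw [h₁, hτ₂, map_one]
  have hez : ∀ z : A' ⊗[C] D, bD D i (extD σ z) * e = z * e := fun z => by
    induction z using TensorProduct.induction_on with
    | zero => simp
    | tmul a d =>
      simp only [extD, Algebra.TensorProduct.lift_tmul, map_mul]
      rw [mul_right_comm, he, mul_right_comm]
      simp [Algebra.TensorProduct.tmul_mul_tmul]
    | add a b ha hb => simp only [map_add, add_mul, ha, hb]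
  have hee : e * e = e := by
    conv_lhs => rw [← hez e, hσe, map_one, one_mul]
  -- it is invariant
  have hρs' : ∀ z, extD ρ (bD D s' z) = bD D s (extD σ z) := fun z => by
    induction z using TensorProduct.induction_on with
    | zero => simp
    | tmul a d => simp [hρs]
    | add a b ha hb => simp only [map_add, ha, hb]
  have hρt' : ∀ z, extD ρ (bD D t' z) = bD D t (extD σ z) := fun z => by
    induction z using TensorProduct.induction_on with
    | zero => simp
    | tmul a d => simp [hρt]
    | add a b ha hb => simp only [map_add, ha, hb]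
  obtain ⟨v, hv⟩ := Ideal.mem_span_singleton'.1 (mem_span_of_ker hs σ ρ hρh hρs e he
    (w := bD D t' (1 - e)) (by rw [hρt', map_sub, map_one, hσe, sub_self, map_zero]))
  obtain ⟨v', hv'⟩ := Ideal.mem_span_singleton'.1 (mem_span_of_ker ht σ ρ hρh hρt e he
    (w := bD D s' (1 - e)) (by rw [hρs', map_sub, map_one, hσe, sub_self, map_zero]))
  have hidem : ∀ f : A' →ₐ[C] B', bD D f (1 - e) * bD D f (1 - e) = bD D f (1 - e) := fun f => by
    rw [← map_mul, mul_sub, mul_one, sub_mul, one_mul, hee, sub_self, sub_zero]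
  have hste : bD D s' (1 - e) = bD D t' (1 - e) := by
    have h₁ : bD D t' (1 - e) * bD D s' (1 - e) = bD D t' (1 - e) := by rw [← hv, mul_assoc, hidem]
    have h₂ : bD D s' (1 - e) * bD D t' (1 - e) = bD D s' (1 - e) := by rw [← hv', mul_assoc, hidem]
    rw [← h₂, mul_comm, h₁]
  rw [map_sub, map_sub, map_one, map_one, sub_right_inj, bD_eq_rTensor, bD_eq_rTensor] at hste
  let j : C' →ₐ[C] A' := IsScalarTower.toAlgHom C C' A'
  obtain ⟨e₀, he₀⟩ := exists_eq_of_flat D j.toLinearMap s'.toLinearMap t'.toLinearMap (fun a => hC' a) hste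
  rw [← bD_eq_rTensor] at he₀
  have hjinj : Function.Injective (bD D j) := injective_bD D j hC'inj
  letI : Algebra C' D := ψ.toRingHom.toAlgebra
  haveI : IsScalarTower C C' D := IsScalarTower.of_algebraMap_eq fun c => (ψ.commutes c).symm
  let μ : C' ⊗[C] D →ₐ[C'] D := Algebra.TensorProduct.lift (Algebra.ofId C' D) (AlgHom.id C D) fun _ _ => .all _ _
  have hμj : ∀ z, extD σ (bD D j z) = 1 ⊗ₜ μ z := fun z => by
    induction z using TensorProduct.induction_on with
    | zero => simp
    | tmul c d =>
      simp only [Algebra.TensorProduct.map_tmul, AlgHom.id_apply, Algebra.TensorProduct.lift_tmul,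
        extD, μ, j, IsScalarTower.coe_toAlgHom', hψ, Algebra.TensorProduct.includeRight_apply,
        Algebra.TensorProduct.tmul_mul_tmul, mul_one]
      rfl
    | add a b ha hb => simp only [map_add, ha, hb, tmul_add]
  have hμe : μ e₀ = 1 := hinj (by
    show (1 : A) ⊗ₜ μ e₀ = _
    rw [← hμj, he₀, hσe, map_one])
  have he₀i : IsIdempotentElem e₀ := hjinj (by rw [map_mul, he₀, hee])
  have hμs : Function.Surjective μ := fun d => ⟨1 ⊗ₜ d, by simp [μ]⟩
  have hker : RingHom.ker μ.toRingHom = Ideal.span {1 - e₀} := by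
    refine le_antisymm (fun x hx => ?_) ?_
    · rw [Ideal.mem_span_singleton']
      refine ⟨x, ?_⟩
      have : x * e₀ = 0 := hjinj (by
        rw [map_mul, he₀, map_zero, ← hez, hμj, show μ x = 0 from hx, tmul_zero, map_zero, zero_mul])
      rw [mul_sub, mul_one, this, sub_zero]
    · rw [Ideal.span_le, Set.singleton_subset_iff]
      show μ (1 - e₀) = 0
      rw [map_sub, map_one, hμe, sub_self]
  refine ⟨?_, ?_⟩
  · haveI : IsLocalization.Away e₀ ((C' ⊗[C] D) ⧸ Ideal.span {1 - e₀}) :=
      IsLocalization.Away.quotient_of_isIdempotentElem he₀i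
    haveI : Algebra.Etale (C' ⊗[C] D) ((C' ⊗[C] D) ⧸ Ideal.span {1 - e₀}) :=
      Algebra.Etale.of_isLocalizationAway e₀
    haveI : Algebra.Etale C' ((C' ⊗[C] D) ⧸ Ideal.span {1 - e₀}) :=
      Algebra.Etale.comp C' (C' ⊗[C] D) _
    haveI : Algebra.Etale C' D := Algebra.Etale.of_equiv
      ((Ideal.quotientEquivAlgOfEq C' hker.symm).trans (Ideal.quotientKerAlgEquivOfSurjective hμs))
    exact RingHom.etale_algebraMap.2 this
  · intro iCD hiCD
    obtain rfl : iCD = ψ.toRingHom.toAlgebra := Algebra.algebra_ext _ _ fun c => hiCD c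
    let η : A ⊗[C] D →ₐ[C] A' ⊗[C'] D :=
      Algebra.TensorProduct.lift ((Algebra.TensorProduct.includeLeft (R := C') (S := C)).comp i)
        ((Algebra.TensorProduct.includeRight (R := C') (A := A')).restrictScalars C) fun _ _ => .all _ _
    let π : A' ⊗[C] D →ₐ[C] A' ⊗[C'] D :=
      Algebra.TensorProduct.lift (Algebra.TensorProduct.includeLeft (R := C') (S := C))
        ((Algebra.TensorProduct.includeRight (R := C') (A := A')).restrictScalars C) fun _ _ => .all _ _
    have hπj : ∀ z, π (bD D j z) = 1 ⊗ₜ μ z := fun z => by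
      induction z using TensorProduct.induction_on with
      | zero => simp
      | tmul c d =>
        simp only [π, μ, bD, j, Algebra.TensorProduct.map_tmul, Algebra.TensorProduct.lift_tmul,
          AlgHom.id_apply, IsScalarTower.coe_toAlgHom', AlgHom.restrictScalars_apply,
          Algebra.TensorProduct.includeRight_apply, Algebra.TensorProduct.includeLeft_apply,
          Algebra.TensorProduct.tmul_mul_tmul, mul_one, one_mul, Algebra.ofId_apply]
        rw [Algebra.algebraMap_eq_smul_one, TensorProduct.smul_tmul, Algebra.smul_def]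
      | add a b ha hb => simp only [map_add, ha, hb, tmul_add]
    have hπe : π e = 1 := by rw [← he₀, hπj, hμe]; rfl
    have hηπ : ∀ z, η z = π (bD D i z) := fun z => by
      induction z using TensorProduct.induction_on with
      | zero => simp
      | tmul a d => simp [η, π]
      | add a b ha hb => simp only [map_add, ha, hb]
    have hησ : ∀ a', η (σ a') = a' ⊗ₜ 1 := fun a' => by
      have h₁ := congrArg π (he a')
      rw [map_mul, map_mul, hπe, mul_one, mul_one, ← hηπ] at h₁
      rw [h₁]
      simp [π]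
    refine ⟨η, ⟨?_, ?_⟩, fun a d => by simp [η, i, Algebra.TensorProduct.tmul_mul_tmul]⟩
    · -- a left inverse
      letI : Algebra C' (A ⊗[C] D) :=
        ((Algebra.TensorProduct.includeRight : D →ₐ[C] A ⊗[C] D).toRingHom.comp ψ.toRingHom).toAlgebra
      let σ' : A' →ₐ[C'] A ⊗[C] D := { σ.toRingHom with commutes' := fun c => hψ c }
      let incR : D →ₐ[C'] A ⊗[C] D :=
        { (Algebra.TensorProduct.includeRight : D →ₐ[C] A ⊗[C] D).toRingHom with commutes' := fun c => rfl }
      let ζ : A' ⊗[C'] D →ₐ[C'] A ⊗[C] D := Algebra.TensorProduct.lift σ' incR fun _ _ => .all _ _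
      have hζ : ∀ z, ζ (η z) = z := fun z => by
        induction z using TensorProduct.induction_on with
        | zero => rw [map_zero, map_zero]
        | tmul a d => simp [η, ζ, σ', incR, i, hσA, Algebra.TensorProduct.tmul_mul_tmul]
        | add a b ha hb => rw [map_add, map_add, ha, hb]
      exact Function.LeftInverse.injective hζ
    · intro z
      induction z using TensorProduct.induction_on with
      | zero => exact ⟨0, map_zero _⟩
      | tmul a d =>
        exact ⟨σ a * (1 ⊗ₜ d), by rw [map_mul, hησ]; simp [η]⟩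
      | add a b ha hb =>
        obtain ⟨x, rfl⟩ := ha
        obtain ⟨y, rfl⟩ := hb
        exact ⟨x + y, map_add _ _ _⟩

end Groth.Agent.EtGrpd19
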