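import Mathlib
import Groth.Agent.Lib.EtGrpd19.Section
import Groth.Agent.Lib.EtGrpd19.Residue
import Groth.Agent.Lib.Hens.Finite
import Groth.Agent.Lib.Hens.PairOps

/-!
# Equivariant sections over a strict henselization

For an étale cartesian morphism of groupoids with trivially lifted stabilizers, every geometric point
extends to an equivariant section over the strict henselization of the ring of invariants.
-/

universe u

set_option autoImplicit false

open TensorProduct

attribute [local instance] Algebra.TensorProduct.rightAlgebra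

namespace Groth.Agent.EtGrpd19

open Groth.Agent.Hens

variable {C A A' B B' : Type u} [CommRing C] [CommRing A] [CommRing A'] [CommRing B] [CommRing B']
  [Algebra C A] [Algebra A A'] [Algebra C A'] [IsScalarTower C A A'] [Algebra C B] [Algebra C B']

/-- What is used of an étale cartesian morphism of groupoids with cartesian stabilizers. -/
structure GrpHyp (s t : A →ₐ[C] B) (s' t' : A' →ₐ[C] B') (h : B →ₐ[C] B') : Prop where
  sq_s : CartSq s s' h
  sq_t : CartSq t t' h
  arrow : ∀ (Ω : Type u) [Field Ω] [IsAlgClosed Ω] (x y : A →+* Ω),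
    (∀ c, x (algebraMap C A c) = y (algebraMap C A c)) → ∃ φ : B →+* Ω, (∀ a, φ (s a) = x a) ∧ ∀ a, φ (t a) = y a
  fin : ∀ (Ω : Type u) [Field Ω] (x : A →+* Ω), Finite {φ : B →+* Ω // ∀ a, φ (s a) = x a}
  refl : ∀ (L : Type u) [CommRing L] (y : A' →+* L), ∃ φ : B' →+* L, (∀ a', φ (s' a') = y a') ∧ ∀ a', φ (t' a') = y a'
  trans : ∀ (L : Type u) [CommRing L] (φ ψ : B' →+* L), (∀ a', φ (s' a') = ψ (t' a')) →
    ∃ χ : B' →+* L, (∀ a', χ (s' a') = ψ (s' a')) ∧ ∀ a', χ (t' a') = φ (t' a')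
  tri : ∀ (L : Type u) [CommRing L] (φ ψ : B' →+* L), (∀ a', φ (s' a') = ψ (s' a')) →
    (∀ a, φ (t' (algebraMap A A' a)) = ψ (t' (algebraMap A A' a))) → ∀ a', φ (t' a') = ψ (t' a')

variable {s t : A →ₐ[C] B} {s' t' : A' →ₐ[C] B'} {h : B →ₐ[C] B'}

theorem GrpHyp.finite_points (H : GrpHyp s t s' t' h) {Ω : Type u} [Field Ω] [IsAlgClosed Ω] [Algebra C Ω]
    (x₀ : A →ₐ[C] Ω) : Finite (A →ₐ[C] Ω) := by
  have := H.fin Ω x₀.toRingHom
  have key := fun x : A →ₐ[C] Ω => H.arrow Ω x₀.toRingHom x.toRingHom fun c => by simp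
  choose φ hs ht using key
  refine Finite.of_injective (fun x => (⟨φ x, hs x⟩ : {φ : B →+* Ω // ∀ a, φ (s a) = x₀ a})) fun x z hxz => ?_
  have := congrArg Subtype.val hxz
  exact AlgHom.ext fun a => (ht x a).symm.trans ((congrArg (fun f : B →+* Ω => f (t a)) this).trans (ht z a))

section Points

variable (q : Ideal C) [q.IsPrime]

/-- The strict henselization. -/
abbrev Hq : Type u := Hs C (Pt q)

/-- Evaluation at a point of the closed fibre. -/
noncomputable abbrev ev {X : Type u} [CommRing X] [Algebra C X] (x : X →ₐ[C] Pt q) :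
    X ⊗[C] Hq q →ₐ[C] Pt q :=
  Algebra.TensorProduct.lift x Hs.res fun _ _ => .all _ _

theorem isIntegral_base (X : Type u) [CommRing X] [Algebra C X] [Algebra.IsIntegral C X] :
    Algebra.IsIntegral (Hq q) (X ⊗[C] Hq q) := by
  refine ⟨fun z => ?_⟩
  induction z using TensorProduct.induction_on with
  | zero => exact isIntegral_zero
  | tmul a d =>
    have h₁ : IsIntegral (Hq q) (a ⊗ₜ[C] (1 : Hq q)) :=
      ((Algebra.IsIntegral.isIntegral (R := C) a).map
        (Algebra.TensorProduct.includeLeft : X →ₐ[C] X ⊗[C] Hq q)).tower_top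
    have h₂ : IsIntegral (Hq q) ((1 : X) ⊗ₜ[C] d) := isIntegral_algebraMap (R := Hq q) (x := d)
    simpa [Algebra.TensorProduct.tmul_mul_tmul] using h₁.mul h₂
  | add a b ha hb => exact ha.add hb

variable {X : Type u} [CommRing X] [Algebra C X] [Algebra.IsIntegral C X]

theorem ker_ev_comap (x : X →ₐ[C] Pt q) :
    (RingHom.ker (ev q x)).comap (algebraMap (Hq q) (X ⊗[C] Hq q)) = IsLocalRing.maximalIdeal (Hq q) := by
  ext d
  rw [Ideal.mem_comap, RingHom.mem_ker, ← Hs.res_eq_zero_iff]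
  exact Iff.of_eq (congrArg (· = 0) ((Algebra.TensorProduct.lift_tmul _ _ _ _ _).trans (by rw [map_one, one_mul])))

theorem isMaximal_ker_ev (x : X →ₐ[C] Pt q) : (RingHom.ker (ev q x)).IsMaximal := by
  have := isIntegral_base q X
  have : (RingHom.ker (ev q x)).IsPrime := RingHom.ker_isPrime _
  exact Ideal.isMaximal_of_isIntegral_of_isMaximal_comap (R := Hq q) _
    (by rw [ker_ev_comap]; infer_instance)

/-- The image of the evaluation, a subfield. -/
noncomputable def evField (x : X →ₐ[C] Pt q) : Subfield (Pt q) where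
  toSubring := (ev q x).toRingHom.range
  inv_mem' := by
    rintro _ ⟨w, rfl⟩
    rcases eq_or_ne (ev q x w) 0 with h0 | h0
    · exact ⟨0, by simp [h0]⟩
    · obtain ⟨v, i, hi, hv⟩ := (isMaximal_ker_ev q x).exists_inv (x := w) h0
      refine ⟨v, eq_inv_of_mul_eq_one_left ?_⟩
      have := congrArg (ev q x) hv
      rw [map_add, map_mul, RingHom.mem_ker.1 hi, add_zero, map_one] at this
      exact this

theorem resField_le (x : X →ₐ[C] Pt q) : resField q ≤ evField q x := by
  rintro _ ⟨d, rfl⟩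
  exact ⟨(1 : X) ⊗ₜ d, by simp [ev]⟩

theorem eq_of_ker_eq (x z : X →ₐ[C] Pt q) (hk : RingHom.ker (ev q x) ≤ RingHom.ker (ev q z)) : x = z := by
  obtain ⟨p, _⟩ := ExpChar.exists (Pt q)
  refine AlgHom.ext fun a => ?_
  obtain ⟨n, d, hd⟩ := exists_pow_mem q p (x a)
  have h₁ : (a ^ p ^ n) ⊗ₜ[C] (1 : Hq q) - 1 ⊗ₜ d ∈ RingHom.ker (ev q x) := by
    simp only [RingHom.mem_ker, map_sub, ev, Algebra.TensorProduct.lift_tmul, map_pow, map_one, one_mul, mul_one]
    exact sub_eq_zero.2 hd.symm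
  have h₂ := hk h₁
  simp only [RingHom.mem_ker, map_sub, ev, Algebra.TensorProduct.lift_tmul, map_pow, map_one, one_mul, mul_one] at h₂
  refine iterateFrobenius_inj (Pt q) p n ?_
  rw [iterateFrobenius_def, iterateFrobenius_def, sub_eq_zero.1 h₂]
  exact hd.symm

/-- All maximal ideals come from points of the closed fibre. -/
theorem exists_ker_ev (M : Ideal (X ⊗[C] Hq q)) [M.IsMaximal] : ∃ φ : X →ₐ[C] Pt q, RingHom.ker (ev q φ) = M := by
  have := isIntegral_base q X
  let F := IsLocalRing.ResidueField (Hq q)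
  let κ := (X ⊗[C] Hq q) ⧸ M
  let _ := Ideal.Quotient.field M
  have hM : M.comap (algebraMap (Hq q) (X ⊗[C] Hq q)) = IsLocalRing.maximalIdeal (Hq q) :=
    IsLocalRing.eq_maximalIdeal (Ideal.isMaximal_comap_of_isIntegral_of_isMaximal (R := Hq q) M)
  let _ : Algebra F κ := (Ideal.Quotient.lift (IsLocalRing.maximalIdeal (Hq q)) (algebraMap (Hq q) κ) fun d hd => by
    rw [← hM] at hd
    exact Ideal.Quotient.eq_zero_iff_mem.2 hd).toAlgebra
  let _ : Algebra F (Pt q) := (Ideal.Quotient.lift (IsLocalRing.maximalIdeal (Hq q))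
    (Hs.res : Hq q →ₐ[C] Pt q).toRingHom fun d hd => (Hs.res_eq_zero_iff d).2 hd).toAlgebra
  have : IsScalarTower (Hq q) F κ := IsScalarTower.of_algebraMap_eq fun d => rfl
  have : Algebra.IsIntegral F κ := ⟨fun z => (Algebra.IsIntegral.isIntegral (R := Hq q) z).tower_top⟩
  let ι : κ →ₐ[F] Pt q := IsAlgClosed.lift
  let Φ : X ⊗[C] Hq q →+* Pt q := ι.toRingHom.comp (Ideal.Quotient.mk M)
  have hright : ∀ d, Φ ((1 : X) ⊗ₜ d) = Hs.res d := fun d => ι.commutes (IsLocalRing.residue _ d)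
  have hC : ∀ c, Φ (algebraMap C (X ⊗[C] Hq q) c) = algebraMap C (Pt q) c := fun c => by
    rw [show algebraMap C (X ⊗[C] Hq q) c = (1 : X) ⊗ₜ algebraMap C (Hq q) c from
      ((Algebra.TensorProduct.includeRight : Hq q →ₐ[C] X ⊗[C] Hq q).commutes c).symm, hright, AlgHom.commutes]
  let Φ' : X ⊗[C] Hq q →ₐ[C] Pt q := { Φ with commutes' := hC }
  refine ⟨Φ'.comp Algebra.TensorProduct.includeLeft, ?_⟩
  have e : ev q (Φ'.comp Algebra.TensorProduct.includeLeft) = Φ' := Algebra.TensorProduct.ext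
    (AlgHom.ext fun a => by simp [ev]) (AlgHom.ext fun d => by
      simp only [AlgHom.comp_apply, AlgHom.restrictScalars_apply, Algebra.TensorProduct.includeRight_apply, ev,
        Algebra.TensorProduct.lift_tmul, map_one, one_mul]
      exact (hright d).symm)
  rw [e]
  ext w
  rw [RingHom.mem_ker]
  show ι (Ideal.Quotient.mk M w) = 0 ↔ w ∈ M
  rw [map_eq_zero_iff ι ι.toRingHom.injective, Ideal.Quotient.eq_zero_iff_mem]

end Points

variable [Algebra.IsIntegral C A] [Algebra.IsIntegral C B] [Algebra.Etale A A']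
variable (q : Ideal C) [q.IsPrime]

set_option maxHeartbeats 1000000 in
/-- An equivariant section over the strict henselization through a given point. -/
theorem exists_section_hs (H : GrpHyp s t s' t' h) (u₀ : A' →ₐ[C] Pt q) :
    ∃ σ : A' →ₐ[A] A ⊗[C] Hq q, (∀ a', ev q (u₀.comp (IsScalarTower.toAlgHom C A A')) (σ a') = u₀ a') ∧
      ∀ ρ : B' →ₐ[C] B ⊗[C] Hq q, (∀ b, ρ (h b) = b ⊗ₜ 1) →
        (∀ a', ρ (s' a') = bD (Hq q) s (σ a')) → ∀ a', ρ (t' a') = bD (Hq q) t (σ a') := by
  classical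
  let x₀ : A →ₐ[C] Pt q := u₀.comp (IsScalarTower.toAlgHom C A A')
  have := H.finite_points x₀
  cases nonempty_fintype (A →ₐ[C] Pt q)
  -- lifts of the points of the orbit
  have key : ∀ x : A →ₐ[C] Pt q, ∃ φ' : B' →+* Pt q, (∀ a', φ' (s' a') = u₀ a') ∧
      ∀ a, φ' (t' (algebraMap A A' a)) = x a := fun x => by
    obtain ⟨φ, hs, ht⟩ := H.arrow (Pt q) x₀.toRingHom x.toRingHom fun c => by simp
    obtain ⟨φ', h₁, h₂⟩ := H.sq_s.lift _ φ u₀.toRingHom fun a => (hs a).symm
    exact ⟨φ', h₂, fun a => by rw [H.sq_t.comm, h₁]; exact ht a⟩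
  choose Φ hΦs hΦt using key
  let y : (A →ₐ[C] Pt q) → A' →+* Pt q := fun x => (Φ x).comp t'.toRingHom
  have hy₀ : ∀ a', y x₀ a' = u₀ a' := fun a' => by
    obtain ⟨φ, h₁, h₂⟩ := H.refl _ u₀.toRingHom
    exact (H.tri _ (Φ x₀) φ (fun b => (hΦs _ b).trans (h₁ b).symm)
      (fun a => (hΦt _ a).trans (h₂ _).symm) a').trans (h₂ a')
  -- equivariance on points
  have hequiv : ∀ (x z : A →ₐ[C] Pt q) (φ' : B' →+* Pt q), (∀ a', φ' (s' a') = y x a') →
      (∀ a, φ' (t' (algebraMap A A' a)) = z a) → ∀ a', φ' (t' a') = y z a' := fun x z φ' h₁ h₂ a' => by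
    obtain ⟨χ, hχs, hχt⟩ := H.trans _ φ' (Φ x) h₁
    rw [← hχt]
    exact H.tri _ χ (Φ z) (fun b => (hχs b).trans ((hΦs x b).trans (hΦs z b).symm))
      (fun a => (hχt _).trans ((h₂ a).trans (hΦt z a).symm)) a'
  -- the reduced closed fibre
  have := isIntegral_base q A
  let J : Ideal (A ⊗[C] Hq q) := ((IsLocalRing.maximalIdeal (Hq q)).map (algebraMap (Hq q) (A ⊗[C] Hq q))).radical
  have hens : HenselianRing (A ⊗[C] Hq q) J :=
    henselianRing_radical (henselianRing_of_isIntegral (inferInstanceAs (HenselianRing (Hq q) (IsLocalRing.maximalIdeal (Hq q)))))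
  have hJle : ∀ x : A →ₐ[C] Pt q, J ≤ RingHom.ker (ev q x) := fun x =>
    ((isMaximal_ker_ev q x).isPrime.radical_le_iff).2 (Ideal.map_le_iff_le_comap.2 (ker_ev_comap q x).ge)
  have hJ : ∀ w, (∀ x, ev q x w = 0) → w ∈ J := fun w hw => by
    simp only [J]
    rw [Ideal.radical_eq_sInf, Ideal.mem_sInf]
    rintro P ⟨hP, hPp⟩
    have hc : P.comap (algebraMap (Hq q) (A ⊗[C] Hq q)) = IsLocalRing.maximalIdeal (Hq q) :=
      ((IsLocalRing.maximalIdeal.isMaximal _).eq_of_le (Ideal.IsPrime.ne_top (Ideal.comap_isPrime _ P))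
        (Ideal.map_le_iff_le_comap.1 hP)).symm
    have : P.IsMaximal := Ideal.isMaximal_of_isIntegral_of_isMaximal_comap (R := Hq q) P
      (hc ▸ IsLocalRing.maximalIdeal.isMaximal _)
    obtain ⟨x, rfl⟩ := exists_ker_ev q P
    exact hw x
  obtain ⟨p, _⟩ := ExpChar.exists (Pt q)
  have hmem : ∀ x a', y x a' ∈ evField q x := fun x a' =>
    mem_of_formallyUnramified p (evField q x)
      (fun z => (exists_pow_mem q p z).imp fun n hn => resField_le q x hn) (y x)
      (fun a => ⟨a ⊗ₜ 1, by simpa [ev, y] using (hΦt x a).symm⟩) a'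
  choose w hw using hmem
  have hcop : Pairwise fun x z : A →ₐ[C] Pt q => IsCoprime (RingHom.ker (ev q x)) (RingHom.ker (ev q z)) :=
    fun x z hxz => Ideal.isCoprime_iff_sup_eq.2 ((isMaximal_ker_ev q x).coprime_of_ne (isMaximal_ker_ev q z)
      fun e => hxz (eq_of_ker_eq q x z e.le))
  choose T hT using fun a' => Ideal.exists_forall_sub_mem_ideal hcop fun x => w x a'
  have hT' : ∀ x a', ev q x (T a') = y x a' := fun x a' => by
    have := hT a' x
    rw [RingHom.mem_ker, map_sub, sub_eq_zero] at this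
    exact this.trans (hw x a')
  have hext : ∀ v v', (∀ x, ev q x v = ev q x v') → Ideal.Quotient.mk J v = Ideal.Quotient.mk J v' :=
    fun v v' hv => Ideal.Quotient.eq.2 (hJ _ fun x => by rw [map_sub, hv, sub_self])
  let σ₀ : A' →ₐ[A] (A ⊗[C] Hq q) ⧸ J :=
    { toFun := fun a' => Ideal.Quotient.mk J (T a')
      map_one' := (hext _ 1 fun x => by rw [hT', map_one, map_one]).trans (map_one _)
      map_zero' := (hext _ 0 fun x => by rw [hT', map_zero, map_zero]).trans (map_zero _)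
      map_add' := fun a b => (hext _ (T a + T b) fun x => by rw [hT', map_add, map_add, hT', hT']).trans (map_add _ _ _)
      map_mul' := fun a b => (hext _ (T a * T b) fun x => by rw [hT', map_mul, map_mul, hT', hT']).trans (map_mul _ _ _)
      commutes' := fun a => hext _ (a ⊗ₜ 1) fun x => by
        rw [hT']
        simpa [ev, y] using hΦt x a }
  obtain ⟨σ, hσ, -⟩ := existsUnique_algHom_lift hens σ₀
  have hσe : ∀ x a', ev q x (σ a') = y x a' := fun x a' => by
    rw [← hT' x a', ← sub_eq_zero, ← map_sub, ← RingHom.mem_ker]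
    exact hJle x (Ideal.Quotient.eq.1 (AlgHom.congr_fun hσ a'))
  refine ⟨σ, fun a' => (hσe x₀ a').trans (hy₀ a'), fun ρ hρh hρs => ?_⟩
  -- equivariance
  let jt : A →+* B ⊗[C] Hq q :=
    (Algebra.TensorProduct.includeLeftRingHom : B →+* B ⊗[C] Hq q).comp t.toRingHom
  let _ : Algebra A (B ⊗[C] Hq q) := jt.toAlgebra
  let f : A' →ₐ[A] B ⊗[C] Hq q :=
    { ρ.toRingHom.comp t'.toRingHom with
      commutes' := fun a => by
        show ρ (t' (algebraMap A A' a)) = t a ⊗ₜ 1
        rw [H.sq_t.comm, hρh] }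
  let g : A' →ₐ[A] B ⊗[C] Hq q :=
    { (bD (Hq q) t).toRingHom.comp σ.toRingHom with
      commutes' := fun a => by
        show bD (Hq q) t (σ (algebraMap A A' a)) = t a ⊗ₜ 1
        rw [σ.commutes]
        simp }
  suffices hfg : f = g from fun a' => AlgHom.congr_fun hfg a'
  refine algHom_ext_of_le_jacobson (J := Ideal.jacobson ⊥) le_rfl fun a' => Ideal.mem_sInf.2 ?_
  rintro M ⟨-, hM⟩
  obtain ⟨φ, rfl⟩ := exists_ker_ev q M
  let x : A →ₐ[C] Pt q := φ.comp s
  let z : A →ₐ[C] Pt q := φ.comp t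
  have hbs : ∀ v, ev q φ (bD (Hq q) s v) = ev q x v := fun v => by
    induction v using TensorProduct.induction_on with
    | zero => simp
    | tmul a d => simp [x, ev]
    | add a b ha hb => simp only [map_add, ha, hb]
  have hbt : ∀ v, ev q φ (bD (Hq q) t v) = ev q z v := fun v => by
    induction v using TensorProduct.induction_on with
    | zero => simp
    | tmul a d => simp [z, ev]
    | add a b ha hb => simp only [map_add, ha, hb]
  let φ' : B' →+* Pt q := (ev q φ).toRingHom.comp ρ.toRingHom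
  have e₁ : φ' (t' a') = y z a' := hequiv x z φ'
    (fun b => by
      show ev q φ (ρ (s' b)) = _
      rw [hρs, hbs, hσe])
    (fun a => by
      show ev q φ (ρ (t' (algebraMap A A' a))) = _
      rw [H.sq_t.comm, hρh]
      simp [ev, z]) a'
  rw [RingHom.mem_ker, map_sub, sub_eq_zero]
  show ev q φ (ρ (t' a')) = ev q φ (bD (Hq q) t (σ a'))
  rw [hbt, hσe]
  exact e₁

end Groth.Agent.EtGrpd19
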