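import Mathlib
import Groth.Agent.Lib.EtGrpd19.Lift
import Groth.Agent.Lib.AzClass29.Basic

/-!
# Étale charts of the invariants
-/

universe u

set_option autoImplicit false

open TensorProduct

namespace Groth.Agent.EtGrpd19

open Groth.Agent.Hens AzClass29 CategoryTheory

variable {C A A' B B' : Type u} [CommRing C] [CommRing A] [CommRing A'] [CommRing B] [CommRing B']
  [Algebra C A] [Algebra A A'] [Algebra C A'] [IsScalarTower C A A'] [Algebra C B] [Algebra C B']
variable {s t : A →ₐ[C] B} {s' t' : A' →ₐ[C] B'} {h : B →ₐ[C] B'}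

/-- A point of `A'` over a prime, with values in the geometric point over the prime of `C` below. -/
theorem exists_pt [Algebra.IsIntegral C A] [Algebra.Etale A A'] (P : Ideal A') [P.IsPrime] :
    ∃ u : A' →ₐ[C] Pt (P.comap (algebraMap C A')), RingHom.ker u = P := by
  classical
  let q := P.comap (algebraMap C A')
  let k' := P.ResidueField
  letI : Algebra q.ResidueField k' := (Ideal.ResidueField.map q P (algebraMap C A') rfl).toAlgebra
  haveI : IsScalarTower C q.ResidueField k' := IsScalarTower.of_algebraMap_eq fun x => by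
    rw [IsScalarTower.algebraMap_apply C A' k', RingHom.algebraMap_toAlgebra]
    exact (Ideal.ResidueField.map_algebraMap _ _ _ _ x).symm
  let L := algebraicClosure q.ResidueField k'
  have hA : ∀ a : A, algebraMap A' k' (algebraMap A A' a) ∈ L := fun a => by
    rw [mem_algebraicClosure_iff]
    exact ((((Algebra.IsIntegral.isIntegral (R := C) a).map (IsScalarTower.toAlgHom C A A')).map
      (IsScalarTower.toAlgHom C A' k')).tower_top (A := q.ResidueField)).isAlgebraic
  let xA : A →+* L := ((algebraMap A' k').comp (algebraMap A A')).codRestrict L hA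
  letI : Algebra A L := xA.toAlgebra
  haveI : IsScalarTower A L k' := IsScalarTower.of_algebraMap_eq fun a => rfl
  haveI : Module.Finite L (L ⊗[A] A') := Algebra.FormallyUnramified.finite_of_free L (L ⊗[A] A')
  let Ψ : L ⊗[A] A' →ₐ[L] k' :=
    Algebra.TensorProduct.lift (Algebra.ofId L k') (IsScalarTower.toAlgHom A A' k') fun _ _ => .all _ _
  have hA' : ∀ a', algebraMap A' k' a' ∈ L := fun a' => by
    rw [mem_algebraicClosure_iff]
    have : IsAlgebraic L (algebraMap A' k' a') := by
      have := ((Algebra.IsIntegral.isIntegral (R := L) ((1 : L) ⊗ₜ[A] a')).map Ψ).isAlgebraic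
      simpa [Ψ] using this
    exact this.restrictScalars q.ResidueField
  let v : A' →+* L := (algebraMap A' k').codRestrict L hA'
  let ι : L →ₐ[q.ResidueField] Pt q := IsAlgClosed.lift
  refine ⟨{ ι.toRingHom.comp v with commutes' := fun c => ?_ }, ?_⟩
  · show ι (v (algebraMap C A' c)) = _
    have : v (algebraMap C A' c) = algebraMap q.ResidueField L (algebraMap C q.ResidueField c) :=
      Subtype.ext ((IsScalarTower.algebraMap_apply C A' k' c).symm.trans
        (IsScalarTower.algebraMap_apply C q.ResidueField k' c))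
    rw [this, AlgHom.commutes]
    exact (IsScalarTower.algebraMap_apply C q.ResidueField (Pt q) c).symm
  · ext a
    rw [RingHom.mem_ker]
    show ι (v a) = 0 ↔ a ∈ P
    rw [map_eq_zero_iff ι ι.toRingHom.injective, ← Ideal.algebraMap_residueField_eq_zero (I := P)]
    exact ⟨fun e => congrArg Subtype.val e, fun e => Subtype.ext e⟩

variable [Algebra.IsIntegral C A] [Algebra.IsIntegral C B] [Algebra.Etale A A']
variable {C' : Type u} [CommRing C'] [Algebra C C'] [Algebra C' A'] [IsScalarTower C C' A']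

set_option maxHeartbeats 1000000 in
/-- At every prime of the invariants there is an étale chart over which the square of quotient maps
is cartesian. -/
theorem exists_chart_at (H : GrpHyp s t s' t' h)
    (hC : ∀ a, s a = t a ↔ a ∈ Set.range (algebraMap C A)) (hCinj : Function.Injective (algebraMap C A))
    (hC' : ∀ a', s' a' = t' a' ↔ a' ∈ Set.range (algebraMap C' A'))
    (hC'inj : Function.Injective (algebraMap C' A'))
    (hover : ∀ p : Ideal C', p.IsPrime → ∃ P : Ideal A', P.IsPrime ∧ P.comap (algebraMap C' A') = p)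
    (p : Ideal C') [p.IsPrime] :
    ∃ (D : Type u) (_ : CommRing D) (_ : Algebra C D) (_ : Algebra C' D),
      IsScalarTower C C' D ∧ Algebra.Etale C D ∧ Algebra.Etale C' D ∧
      (∃ P : Ideal D, P.IsPrime ∧ P.comap (algebraMap C' D) = p) ∧
      ∃ η : A ⊗[C] D →ₐ[C] A' ⊗[C'] D,
        Function.Bijective η ∧ ∀ a d, η (a ⊗ₜ d) = algebraMap A A' a ⊗ₜ[C'] d := by
  classical
  obtain ⟨P, hP, rfl⟩ := hover p ‹_›
  obtain ⟨u₀, hu₀⟩ := exists_pt (C := C) (A := A) P
  let q := P.comap (algebraMap C A')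
  obtain ⟨σ₁, hpt, hequiv⟩ := exists_section_hs q H u₀
  -- descend the section to a neighbourhood
  obtain ⟨n, π, hπ, hfg⟩ := (Algebra.FinitePresentation.out : ∃ (n : ℕ) (f : MvPolynomial (Fin n) A →ₐ[A] A'),
    Function.Surjective f ∧ (RingHom.ker f.toRingHom).FG)
  obtain ⟨S, hS⟩ := hfg
  obtain ⟨i, x, hx⟩ := exists_stage_fin (S := C) (R := A) (S1 := C) (K := Pt q) fun k : Fin n => σ₁ (π (MvPolynomial.X k))
  let aev : MvPolynomial (Fin n) A →ₐ[A] A ⊗[C] i.toNbhd.S := MvPolynomial.aeval x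
  have haev : ∀ P, bc A (toS i) (aev P) = σ₁ (π P) := fun P => by
    refine AlgHom.congr_fun (φ₁ := (bc A (toS i)).comp aev) (φ₂ := σ₁.comp π) (MvPolynomial.algHom_ext fun k => ?_) P
    simp [aev, hx]
  obtain ⟨l, f, hf⟩ := exists_kill i (fun r : S => aev r.1) (fun r => by
    rw [haev, show π r.1 = 0 from hS.le (Ideal.subset_span r.2), map_zero])
  let g : A' →ₐ[A] A ⊗[C] l.toNbhd.S := AlgHom.liftOfSurjective π hπ ((bc A (f.1.restrictScalars C)).comp aev) (by
    refine hS.ge.trans (Ideal.span_le.2 fun r hr => ?_)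
    exact hf ⟨r, hr⟩)
  have hg : ∀ a', bc A (toS l) (g a') = σ₁ a' := fun a' => by
    obtain ⟨P, rfl⟩ := hπ a'
    rw [show g (π P) = bc A (f.1.restrictScalars C) (aev P) from AlgHom.liftOfSurjective_apply π hπ _ _ P, bc_toS, haev]
  -- the arrow level
  have mkρ : ∀ (D : Type u) [CommRing D] [Algebra C D] (σ : A' →ₐ[A] A ⊗[C] D),
      ∃ ρ : B' →ₐ[C] B ⊗[C] D, (∀ b, ρ (h b) = b ⊗ₜ 1) ∧ ∀ a', ρ (s' a') = bD D s (σ a') := fun D _ _ σ => by
    obtain ⟨φ', h₁, h₂⟩ := H.sq_s.lift (B ⊗[C] D) (Algebra.TensorProduct.includeLeftRingHom : B →+* B ⊗[C] D)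
      ((bD D s).toRingHom.comp σ.toRingHom) fun a => by
        show bD D s (σ (algebraMap A A' a)) = s a ⊗ₜ 1
        rw [σ.commutes]
        simp
    refine ⟨{ φ' with commutes' := fun c => ?_ }, h₁, h₂⟩
    show φ' (algebraMap C B' c) = _
    rw [← h.commutes, h₁]
    rfl
  obtain ⟨ρ, hρh, hρs⟩ := mkρ _ g
  let cB : ∀ {T T' : Type u} [CommRing T] [Algebra C T] [CommRing T'] [Algebra C T'],
      (T →ₐ[C] T') → (B ⊗[C] T →ₐ[C] B ⊗[C] T') := fun φ => Algebra.TensorProduct.map (AlgHom.id C B) φ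
  have hbc : ∀ {T T' : Type u} [CommRing T] [Algebra C T] [CommRing T'] [Algebra C T'] (φ : T →ₐ[C] T')
      (v : A →ₐ[C] B) (z : A ⊗[C] T), bc B φ (bD T v z) = bD T' v (bc A φ z) := fun φ v z => by
    induction z using TensorProduct.induction_on with
    | zero => simp
    | tmul a d => simp [bc]
    | add a b ha hb => simp only [map_add, ha, hb]
  have hρt₁ : ∀ a', bc B (toS l) (ρ (t' a')) = bc B (toS l) (bD _ t (g a')) := fun a' => by
    rw [hbc, hg]
    exact hequiv (((bc B (toS l)).restrictScalars C).comp ρ)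
      (fun b => by simp [hρh, bc])
      (fun b => by
        rw [AlgHom.comp_apply, hρs]
        exact (hbc _ _ _).trans (by rw [hg])) a'
  obtain ⟨m, e, he⟩ := exists_kill l (fun k : Fin n => ρ (t' (π (MvPolynomial.X k))) - bD _ t (g (π (MvPolynomial.X k))))
    (fun k => by rw [map_sub, hρt₁, sub_self])
  let E : l.toNbhd.S →ₐ[C] m.toNbhd.S := e.1.restrictScalars C
  let σ : A' →ₐ[A] A ⊗[C] m.toNbhd.S := (bc A E).comp g
  let ρm : B' →ₐ[C] B ⊗[C] m.toNbhd.S := ((bc B E).restrictScalars C).comp ρ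
  have hρmh : ∀ b, ρm (h b) = b ⊗ₜ 1 := fun b => by simp [ρm, hρh, bc]
  have hρms : ∀ a', ρm (s' a') = bD _ s (σ a') := fun a' => by
    show bc B E (ρ (s' a')) = _
    rw [hρs, hbc]
    rfl
  have hρmt : ∀ a', ρm (t' a') = bD _ t (σ a') := by
    have key : ((ρm.toRingHom.comp t'.toRingHom).comp π.toRingHom) =
        (((bD m.toNbhd.S t).toRingHom.comp σ.toRingHom).comp π.toRingHom) := by
      refine MvPolynomial.ringHom_ext (fun a => ?_) fun k => ?_
      · show ρm (t' (π (MvPolynomial.C a))) = bD _ t (σ (π (MvPolynomial.C a)))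
        rw [← MvPolynomial.algebraMap_eq, AlgHom.commutes, H.sq_t.comm, hρmh, σ.commutes]
        simp
      · show bc B E (ρ (t' (π (MvPolynomial.X k)))) = bD _ t (bc A E (g (π (MvPolynomial.X k))))
        rw [← hbc]
        exact sub_eq_zero.1 ((map_sub _ _ _).symm.trans (he k))
    intro a'
    obtain ⟨P, rfl⟩ := hπ a'
    exact congr($key P)
  obtain ⟨ψ, hψ, hψet, hψη⟩ := exists_chart H.sq_s H.sq_t hC hCinj hC' hC'inj
    (σ.restrictScalars C) (fun a => σ.commutes a) ρm hρmh hρms hρmt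
  letI : Algebra C' m.toNbhd.S := ψ.toRingHom.toAlgebra
  haveI : IsScalarTower C C' m.toNbhd.S := IsScalarTower.of_algebraMap_eq fun c => (ψ.commutes c).symm
  refine ⟨m.toNbhd.S, inferInstance, inferInstance, inferInstance, inferInstance, inferInstance,
    RingHom.etale_algebraMap.1 hψet, ⟨RingHom.ker m.toNbhd.σ, RingHom.ker_isPrime _, ?_⟩, hψη inferInstance fun _ => rfl⟩
  have hσpt : ∀ a', ev q (u₀.comp (IsScalarTower.toAlgHom C A A')) (bc A (toS m) (σ a')) = u₀ a' := fun a' => by
    show ev q _ (bc A (toS m) (bc A E (g a'))) = _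
    rw [bc_toS, hg, hpt]
  ext c
  rw [Ideal.mem_comap, Ideal.mem_comap, ← SetLike.ext_iff.1 hu₀, RingHom.mem_ker, RingHom.mem_ker, ← hσpt, show σ (algebraMap C' A' c) = 1 ⊗ₜ ψ c from hψ c]
  refine Iff.of_eq (congrArg (· = 0) ?_)
  simp [bc, ev, EtNbhd.toHs_apply, Hs.res_of, Nbhd.res_algebraMap, RingHom.algebraMap_toAlgebra]

end Groth.Agent.EtGrpd19
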