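import Mathlib
import Groth.Agent.Lib.EtGrpd19.Chart
import Groth.Agent.Lib.AlgSpace.LocP

/-!
# The map on invariants is étale and the square of quotient maps is cartesian
-/

universe u

set_option autoImplicit false
set_option linter.style.haveILetI false

open TensorProduct AlgebraicGeometry CategoryTheory

namespace Groth.Agent.EtGrpd19

/-- An element of a module killed by flat algebras meeting every prime vanishes. -/
theorem eq_zero_of_cover {R : Type u} [CommRing R] {M : Type u} [AddCommGroup M] [Module R M] (x : M)
    (h : ∀ p : Ideal R, p.IsPrime → ∃ (D : Type u) (_ : CommRing D) (_ : Algebra R D),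
      Module.Flat R D ∧ (∃ P : Ideal D, P.IsPrime ∧ P.comap (algebraMap R D) = p) ∧ (1 : D) ⊗ₜ[R] x = 0) :
    x = 0 := by
  by_contra hx
  let I : Ideal R := LinearMap.ker (LinearMap.toSpanSingleton R M x)
  have hI : I ≠ ⊤ := fun e => hx (by
    have : (1 : R) ∈ I := e ▸ trivial
    simpa [I] using this)
  obtain ⟨m, hm, hIm⟩ := Ideal.exists_le_maximal I hI
  obtain ⟨D, _, _, hflat, ⟨P, hP, hPm⟩, h0⟩ := h m hm.isPrime
  have hex : Function.Exact (Submodule.subtype I) (LinearMap.toSpanSingleton R M x) :=
    LinearMap.exact_subtype_ker_map _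
  obtain ⟨y, hy⟩ := (Module.Flat.lTensor_exact D hex ((1 : D) ⊗ₜ[R] (1 : R))).1 (by simpa using h0)
  have key : ∀ y : D ⊗[R] I, TensorProduct.rid R D ((Submodule.subtype I).lTensor D y) ∈ P := fun y => by
    induction y using TensorProduct.induction_on with
    | zero => simp
    | tmul d i =>
      simp only [LinearMap.lTensor_tmul, TensorProduct.rid_tmul, Submodule.subtype_apply, Algebra.smul_def]
      exact P.mul_mem_right _ (show (i : R) ∈ P.comap (algebraMap R D) from hPm ▸ hIm i.2)
    | add a b ha hb => simpa only [map_add] using P.add_mem ha hb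
  have := key y
  rw [hy, TensorProduct.rid_tmul, one_smul] at this
  exact hP.ne_top ((Ideal.eq_top_iff_one P).2 this)

/-- A linear map which is bijective after flat algebras meeting every prime is bijective. -/
theorem bijective_of_cover {R : Type u} [CommRing R] {M N : Type u} [AddCommGroup M] [Module R M]
    [AddCommGroup N] [Module R N] (f : M →ₗ[R] N)
    (h : ∀ p : Ideal R, p.IsPrime → ∃ (D : Type u) (_ : CommRing D) (_ : Algebra R D),
      Module.Flat R D ∧ (∃ P : Ideal D, P.IsPrime ∧ P.comap (algebraMap R D) = p) ∧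
      Function.Bijective (f.lTensor D)) : Function.Bijective f := by
  constructor
  · rw [injective_iff_map_eq_zero]
    intro x hx
    refine eq_zero_of_cover (R := R) x fun p hp => ?_
    obtain ⟨D, i1, i2, hflat, hover, hbij⟩ := h p hp
    exact ⟨D, i1, i2, hflat, hover, hbij.1 (by simp [hx])⟩
  · intro n
    have : (Submodule.Quotient.mk n : N ⧸ LinearMap.range f) = 0 := eq_zero_of_cover (R := R) _ fun p hp => by
      obtain ⟨D, i1, i2, hflat, hover, hbij⟩ := h p hp
      refine ⟨D, i1, i2, hflat, hover, ?_⟩
      obtain ⟨z, hz⟩ := hbij.2 ((1 : D) ⊗ₜ[R] n)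
      have hk : ((LinearMap.range f).mkQ.lTensor D) (f.lTensor D z) = 0 := by
        rw [← LinearMap.lTensor_comp_apply,
          show (LinearMap.range f).mkQ ∘ₗ f = 0 from LinearMap.range_le_ker_iff.1 (by rw [Submodule.ker_mkQ]),
          LinearMap.lTensor_zero, LinearMap.zero_apply]
      rw [hz, LinearMap.lTensor_tmul] at hk
      exact hk
    exact (Submodule.Quotient.mk_eq_zero _).1 this

variable {C A A' B B' : Type u} [CommRing C] [CommRing A] [CommRing A'] [CommRing B] [CommRing B']
  [Algebra C A] [Algebra A A'] [Algebra C A'] [IsScalarTower C A A'] [Algebra C B] [Algebra C B']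
  [Algebra.IsIntegral C A] [Algebra.IsIntegral C B] [Algebra.Etale A A']
variable {C' : Type u} [CommRing C'] [Algebra C C'] [Algebra C' A'] [IsScalarTower C C' A']
variable {s t : A →ₐ[C] B} {s' t' : A' →ₐ[C] B'} {h : B →ₐ[C] B'}

set_option maxHeartbeats 1000000 in
/-- The map on invariants is étale and `A'` is the pushout. -/
theorem etale_and_isPushout (H : GrpHyp s t s' t' h)
    (hC : ∀ a, s a = t a ↔ a ∈ Set.range (algebraMap C A)) (hCinj : Function.Injective (algebraMap C A))
    (hC' : ∀ a', s' a' = t' a' ↔ a' ∈ Set.range (algebraMap C' A'))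
    (hC'inj : Function.Injective (algebraMap C' A'))
    (hover : ∀ p : Ideal C', p.IsPrime → ∃ P : Ideal A', P.IsPrime ∧ P.comap (algebraMap C' A') = p) :
    Etale (Spec.map (CommRingCat.ofHom (algebraMap C C'))) ∧ Algebra.IsPushout C C' A A' := by
  have key := fun p : PrimeSpectrum C' => exists_chart_at H hC hCinj hC' hC'inj hover p.asIdeal
  choose D iR iC iC' hT hD hD' hP η hη hηt using key
  constructor
  · let W : PrimeSpectrum C' → Scheme.{u} := fun p => @Spec (@CommRingCat.of (D p) (iR p))
    let a : ∀ p, W p ⟶ Spec (CommRingCat.of C') := fun p =>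
      Spec.map (CommRingCat.ofHom (@algebraMap C' (D p) _ _ (iC' p)))
    have ha : ∀ p, Etale (a p) := fun p => by
      have := hD' p
      exact (HasRingHomProperty.Spec_iff (P := @Etale)).2 (RingHom.etale_algebraMap.2 this)
    have hsurj : Surjective (Limits.Sigma.desc a) := ⟨fun x => by
      obtain ⟨P, hP₁, hP₂⟩ := hP x
      refine ⟨(Limits.Sigma.ι W x).base ⟨P, hP₁⟩, ?_⟩
      rw [← Scheme.Hom.comp_apply, Limits.Sigma.ι_desc]
      exact PrimeSpectrum.ext hP₂⟩
    have het : Etale (Limits.Sigma.desc a) := IsZariskiLocalAtSource.sigmaDesc ha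
    refine Groth.Agent.AlgSpDescent.descendsEtaleSource_etale (Limits.Sigma.desc a) _ het hsurj ?_
    have e : Limits.Sigma.desc a ≫ Spec.map (CommRingCat.ofHom (algebraMap C C')) =
        Limits.Sigma.desc fun p => a p ≫ Spec.map (CommRingCat.ofHom (algebraMap C C')) :=
      Limits.Sigma.hom_ext _ _ fun p => by simp
    rw [e]
    refine IsZariskiLocalAtSource.sigmaDesc fun p => ?_
    have hDp := hD p
    have := hT p
    rw [← Spec.map_comp, ← CommRingCat.ofHom_comp, ← IsScalarTower.algebraMap_eq C C' (D p)]
    exact (HasRingHomProperty.Spec_iff (P := @Etale)).2 (RingHom.etale_algebraMap.2 hDp)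
  · let Φ : C' ⊗[C] A →ₐ[C'] A' :=
      Algebra.TensorProduct.lift (Algebra.ofId C' A') (IsScalarTower.toAlgHom C A A') fun _ _ => .all _ _
    have hΦ : Function.Bijective Φ.toLinearMap := bijective_of_cover _ fun p hp => by
      let p' : PrimeSpectrum C' := ⟨p, hp⟩
      letI := iR p'; letI := iC p'; letI := iC' p'
      haveI := hT p'
      haveI := hD' p'
      refine ⟨D p', inferInstance, inferInstance, inferInstance, hP p', ?_⟩
      let e₁ := TensorProduct.AlgebraTensorModule.cancelBaseChange C C' C' (D p') A
      have e : ∀ z, Φ.toLinearMap.lTensor (D p') z =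
          TensorProduct.comm C' A' (D p') (η p' (TensorProduct.comm C (D p') A (e₁ z))) := fun z => by
        induction z using TensorProduct.induction_on with
        | zero => simp
        | tmul d w =>
          induction w using TensorProduct.induction_on with
          | zero => simp
          | tmul c a =>
            simp only [e₁, Φ, LinearMap.lTensor_tmul, AlgHom.toLinearMap_apply, Algebra.TensorProduct.lift_tmul,
              TensorProduct.AlgebraTensorModule.cancelBaseChange_tmul, TensorProduct.comm_tmul, hηt,
              Algebra.ofId_apply, IsScalarTower.coe_toAlgHom']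
            rw [← Algebra.smul_def, smul_tmul]
          | add x y hx hy => simp only [tmul_add, map_add, hx, hy]
        | add x y hx hy => simp only [map_add, hx, hy]
      rw [show ⇑(Φ.toLinearMap.lTensor (D p')) =
        (TensorProduct.comm C' A' (D p')) ∘ (η p') ∘ (TensorProduct.comm C (D p') A) ∘ e₁ from funext e]
      exact (LinearEquiv.bijective _).comp ((hη p').comp ((LinearEquiv.bijective _).comp (LinearEquiv.bijective _)))
    exact ⟨IsBaseChange.of_equiv (LinearEquiv.ofBijective Φ.toLinearMap hΦ) fun x => by simp [Φ]⟩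

end Groth.Agent.EtGrpd19
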