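import Groth.Agent.Lib.EtGrpd19.Descend
import Groth.Agent.Lib.GrpQuot.Affine
import Groth.Agent.Lib.GrpQuot.Conj

/-!
# Étale cartesian morphisms of finite locally free groupoids with cartesian stabilizers
-/

universe u

set_option autoImplicit false
set_option linter.style.haveILetI false

open CategoryTheory CategoryTheory.Limits AlgebraicGeometry

namespace Groth.Agent.EtGrpd19

open Groth.Agent.GrpQuot Groth.Agent.GrpdB Groth.Agent.FinQuot

theorem pt_eq_iff {X Y : Scheme.{u}} [IsAffine X] [IsAffine Y] {L : Type u} [CommRing L]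
    (φ : Γ(X, ⊤) →+* L) (g : X ⟶ Y) (z : Spec (CommRingCat.of L) ⟶ Y) (ψ : Γ(Y, ⊤) →+* L)
    (hz : pt (CommRingCat.ofHom ψ) = z) :
    pt (CommRingCat.ofHom φ) ≫ g = z ↔ ∀ a, φ (g.appTop.hom a) = ψ a := by
  rw [ptc, ← hz]
  exact ⟨fun h a => RingHom.congr_fun (pt_inj h) a, fun h =>
    congrArg (fun m => pt (CommRingCat.ofHom m)) (RingHom.ext h)⟩

theorem cartSq_of_isPullback {C : Type u} [CommRing C] {U U' R R' : Scheme.{u}} [IsAffine U] [IsAffine U']
    [IsAffine R] [IsAffine R'] {fR : R' ⟶ R} {s' : R' ⟶ U'} {s : R ⟶ U} {fU : U' ⟶ U}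
    (sq : IsPullback fR s' s fU) [Algebra C Γ(U, ⊤)] [Algebra C Γ(U', ⊤)] [Algebra C Γ(R, ⊤)] [Algebra C Γ(R', ⊤)]
    (σ : Γ(U, ⊤) →ₐ[C] Γ(R, ⊤)) (hσ : ∀ a, σ a = s.appTop.hom a)
    (σ' : Γ(U', ⊤) →ₐ[C] Γ(R', ⊤)) (hσ' : ∀ a, σ' a = s'.appTop.hom a)
    (h : Γ(R, ⊤) →ₐ[C] Γ(R', ⊤)) (hh : ∀ a, h a = fR.appTop.hom a) :
    letI := fU.appTop.hom.toAlgebra
    CartSq σ σ' h := by
  letI := fU.appTop.hom.toAlgebra
  refine ⟨fun a => ?_, fun L _ φ y hy => ?_, fun L _ φ₁ φ₂ e₁ e₂ => ?_⟩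
  · rw [hσ', hh, hσ]
    show s'.appTop.hom (fU.appTop.hom a) = _
    rw [← RingHom.comp_apply, ← RingHom.comp_apply, appTop_comp_hom, appTop_comp_hom, sq.w]
  · have w : pt (CommRingCat.ofHom φ) ≫ s = pt (CommRingCat.ofHom y) ≫ fU :=
      (pt_eq_iff φ s _ (y.comp fU.appTop.hom) (ptc y fU).symm).2 fun a => by
        rw [← hσ]
        exact (hy a).symm
    refine ⟨unpt (sq.lift _ _ w), fun b => ?_, fun a => ?_⟩
    · rw [hh]
      exact (pt_eq_iff _ fR _ φ rfl).1 (by rw [pt_unpt]; exact sq.lift_fst _ _ w) b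
    · rw [hσ']
      exact (pt_eq_iff _ s' _ y rfl).1 (by rw [pt_unpt]; exact sq.lift_snd _ _ w) a
  · refine pt_inj (sq.hom_ext ?_ ?_)
    · exact (pt_eq_iff φ₁ fR _ (φ₂.comp fR.appTop.hom) (ptc φ₂ fR).symm).2 fun b => by
        rw [← hh]; exact (e₁ b).trans (congrArg φ₂ (hh b))
    · exact (pt_eq_iff φ₁ s' _ (φ₂.comp s'.appTop.hom) (ptc φ₂ s').symm).2 fun b => by
        rw [← hσ']; exact (e₂ b).trans (congrArg φ₂ (hσ' b))

variable {S : Scheme.{u}}

/-- Arrows from a common point with targets over a common point have equal targets. -/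
theorem tri_of_stab {G' G : Grpd.GroupoidScheme S} (f : Grpd.GroupoidScheme.Hom G' G)
    (hs : IsPullback f.fR G'.s G.s f.fU)
    (hstab : ∃ g : G'.stabilizer ⟶ G.stabilizer, g ≫ pullback.fst G.j G.diag = pullback.fst G'.j G'.diag ≫ f.fR ∧
      IsPullback g G'.stabilizerToU G.stabilizerToU f.fU)
    {T : Scheme.{u}} (a b : T ⟶ G'.R) (h₁ : a ≫ G'.s = b ≫ G'.s)
    (h₂ : a ≫ G'.t ≫ f.fU = b ≫ G'.t ≫ f.fU) : a ≫ G'.t = b ≫ G'.t := by
  obtain ⟨g, hg, sq⟩ := hstab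
  have h : a ≫ G'.s = (b ≫ G'.i) ≫ G'.t := by rw [Category.assoc, G'.i_t, h₁]
  let χ := cmp G' a (b ≫ G'.i) h
  have hχs : χ ≫ G'.s = b ≫ G'.t := by rw [cmp_s, Category.assoc, G'.i_s]
  have hχt : χ ≫ G'.t = a ≫ G'.t := cmp_t _ _ _
  let u : T ⟶ G.U := b ≫ G'.t ≫ f.fU
  have hz₁ : (χ ≫ f.fR) ≫ G.t = u := by
    rw [Category.assoc, f.comm_t, ← Category.assoc, hχt, Category.assoc, h₂]
  have hz₂ : (χ ≫ f.fR) ≫ G.s = u := by
    rw [Category.assoc, f.comm_s, ← Category.assoc, hχs, Category.assoc]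
  let w := sq.lift (stabLift G (χ ≫ f.fR) u hz₁ hz₂) (b ≫ G'.t) (by
    rw [stabLift_toU, Category.assoc])
  have hw : w ≫ G'.stabilizerToU = b ≫ G'.t := sq.lift_snd _ _ _
  have e : χ = w ≫ pullback.fst G'.j G'.diag := by
    refine hs.hom_ext ?_ ?_
    · exact (stabLift_fst G (χ ≫ f.fR) u hz₁ hz₂).symm.trans
        ((congrArg (· ≫ pullback.fst G.j G.diag) (sq.lift_fst _ _ _)).symm.trans
          ((Category.assoc _ _ _).trans ((congrArg (w ≫ ·) hg).trans (Category.assoc _ _ _).symm)))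
    · rw [stab_s, hw, hχs]
  rw [← hχt, e, stab_t, hw]

variable {G' G : Grpd.GroupoidScheme S} [IsAffine G.U] [IsAffine G.R] [IsAffine G'.U] [IsAffine G'.R]

theorem map_invariant (f : Grpd.GroupoidScheme.Hom G' G) {a : Γ(G.U, ⊤)} (ha : a ∈ G.invariants) :
    f.fU.appTop.hom a ∈ G'.invariants := by
  show G'.s.appTop.hom (f.fU.appTop.hom a) = G'.t.appTop.hom (f.fU.appTop.hom a)
  rw [← RingHom.comp_apply, appTop_comp_hom, ← RingHom.comp_apply, appTop_comp_hom, ← f.comm_s, ← f.comm_t,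
    ← appTop_comp_hom, ← appTop_comp_hom]
  exact congrArg f.fR.appTop.hom ha

/-- The map of invariant rings. -/
noncomputable def invMap (f : Grpd.GroupoidScheme.Hom G' G) : G.invariants →+* G'.invariants :=
  (f.fU.appTop.hom.comp G.invariants.subtype).codRestrict _ fun a => map_invariant f a.2

theorem toQuot_map (f : Grpd.GroupoidScheme.Hom G' G) :
    G'.toQuot ≫ Spec.map (CommRingCat.ofHom (invMap f)) = f.fU ≫ G.toQuot := by
  show (G'.U.toSpecΓ ≫ Spec.map _) ≫ _ = f.fU ≫ G.U.toSpecΓ ≫ Spec.map _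
  rw [Category.assoc, Scheme.toSpecΓ_naturality_assoc, ← Spec.map_comp, ← Spec.map_comp]
  rfl

variable [IsFinite G.s] [Flat G.s] [LocallyOfFinitePresentation G.s] [IsFinite G'.s] [Flat G'.s]
  [LocallyOfFinitePresentation G'.s]

set_option maxHeartbeats 2000000 in
theorem main (f : Grpd.GroupoidScheme.Hom G' G) (hs : IsPullback f.fR G'.s G.s f.fU)
    (ht : IsPullback f.fR G'.t G.t f.fU)
    (hstab : ∃ g : G'.stabilizer ⟶ G.stabilizer, g ≫ pullback.fst G.j G.diag = pullback.fst G'.j G'.diag ≫ f.fR ∧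
      IsPullback g G'.stabilizerToU G.stabilizerToU f.fU) [Etale f.fU] :
    Etale (Spec.map (CommRingCat.ofHom (invMap f))) ∧
      IsPullback f.fU G'.toQuot G.toQuot (Spec.map (CommRingCat.ofHom (invMap f))) := by
  letI iAA' : Algebra Γ(G.U, ⊤) Γ(G'.U, ⊤) := f.fU.appTop.hom.toAlgebra
  letI iCA' : Algebra G.invariants Γ(G'.U, ⊤) := (f.fU.appTop.hom.comp G.invariants.subtype).toAlgebra
  haveI : IsScalarTower G.invariants Γ(G.U, ⊤) Γ(G'.U, ⊤) := IsScalarTower.of_algebraMap_eq fun c => rfl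
  letI iCB : Algebra G.invariants Γ(G.R, ⊤) := (G.s.appTop.hom.comp G.invariants.subtype).toAlgebra
  letI iCB' : Algebra G.invariants Γ(G'.R, ⊤) :=
    (f.fR.appTop.hom.comp (G.s.appTop.hom.comp G.invariants.subtype)).toAlgebra
  letI iCC' : Algebra G.invariants G'.invariants := (invMap f).toAlgebra
  haveI : IsScalarTower G.invariants G'.invariants Γ(G'.U, ⊤) := IsScalarTower.of_algebraMap_eq fun c => rfl
  haveI : Algebra.Etale Γ(G.U, ⊤) Γ(G'.U, ⊤) :=
    RingHom.etale_algebraMap.1 ((HasRingHomProperty.iff_of_isAffine (P := @Etale)).1 ‹Etale f.fU›)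
  have hint := isIntegral_invariants G
  have hintB : Algebra.IsIntegral G.invariants Γ(G.R, ⊤) := by
    letI := G.s.appTop.hom.toAlgebra
    haveI := (algebra_props G).1
    haveI : IsScalarTower G.invariants Γ(G.U, ⊤) Γ(G.R, ⊤) := IsScalarTower.of_algebraMap_eq fun c => rfl
    exact Algebra.IsIntegral.trans Γ(G.U, ⊤)
  have hcs : ∀ a, G'.s.appTop.hom (f.fU.appTop.hom a) = f.fR.appTop.hom (G.s.appTop.hom a) := fun a => by
    rw [← RingHom.comp_apply, appTop_comp_hom, ← RingHom.comp_apply, appTop_comp_hom, f.comm_s]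
  have hct : ∀ a, G'.t.appTop.hom (f.fU.appTop.hom a) = f.fR.appTop.hom (G.t.appTop.hom a) := fun a => by
    rw [← RingHom.comp_apply, appTop_comp_hom, ← RingHom.comp_apply, appTop_comp_hom, f.comm_t]
  let sA : Γ(G.U, ⊤) →ₐ[G.invariants] Γ(G.R, ⊤) := { G.s.appTop.hom with commutes' := fun c => rfl }
  let tA : Γ(G.U, ⊤) →ₐ[G.invariants] Γ(G.R, ⊤) := { G.t.appTop.hom with commutes' := fun c => c.2.symm }
  let sA' : Γ(G'.U, ⊤) →ₐ[G.invariants] Γ(G'.R, ⊤) := { G'.s.appTop.hom with commutes' := fun c => hcs c }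
  let tA' : Γ(G'.U, ⊤) →ₐ[G.invariants] Γ(G'.R, ⊤) :=
    { G'.t.appTop.hom with commutes' := fun c => (hct c).trans (congrArg f.fR.appTop.hom c.2.symm) }
  let hA : Γ(G.R, ⊤) →ₐ[G.invariants] Γ(G'.R, ⊤) := { f.fR.appTop.hom with commutes' := fun c => rfl }
  have H : GrpHyp sA tA sA' tA' hA :=
    { sq_s := cartSq_of_isPullback hs sA (fun _ => rfl) sA' (fun _ => rfl) hA fun _ => rfl
      sq_t := cartSq_of_isPullback ht tA (fun _ => rfl) tA' (fun _ => rfl) hA fun _ => rfl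
      arrow := fun Ω _ _ x y hxy => by
        letI := G.s.appTop.hom.toAlgebra
        haveI := (algebra_props G).1
        haveI := (algebra_props G).2
        obtain ⟨φ, h₁, h₂⟩ := exists_arrow (grpR G) (x := x) (y := y) fun c hc => hxy ⟨c, hc⟩
        exact ⟨φ, fun a => RingHom.congr_fun h₁ a, fun a => RingHom.congr_fun h₂ a⟩
      fin := fun Ω _ x => by
        letI := G.s.appTop.hom.toAlgebra
        haveI := (algebra_props G).1
        haveI : Module.Finite Ω (Fib x Γ(G.R, ⊤)) :=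
          inferInstanceAs (Module.Finite (Tw x) (TensorProduct Γ(G.U, ⊤) (Tw x) Γ(G.R, ⊤)))
        refine Finite.of_injective (fun φ : {φ : Γ(G.R, ⊤) →+* Ω // ∀ a, φ (sA a) = x a} =>
          liftAlg x (M := Ω) φ.1 (RingHom.ext fun a => φ.2 a)) fun φ ψ e => Subtype.ext (RingHom.ext fun b => ?_)
        have := AlgHom.congr_fun e (inB x b)
        rwa [liftAlg_inB, liftAlg_inB] at this
      refl := fun L _ y => ⟨y.comp G'.e.appTop.hom, fun a => by
          show y (G'.e.appTop.hom (G'.s.appTop.hom a)) = y a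
          rw [← RingHom.comp_apply G'.e.appTop.hom, appTop_comp_hom, G'.e_s, appTop_id_hom, RingHom.id_apply],
        fun a => by
          show y (G'.e.appTop.hom (G'.t.appTop.hom a)) = y a
          rw [← RingHom.comp_apply G'.e.appTop.hom, appTop_comp_hom, G'.e_t, appTop_id_hom, RingHom.id_apply]⟩
      trans := fun L _ φ ψ hφψ =>
        ⟨mulR G' φ ψ (RingHom.ext hφψ), fun a => RingHom.congr_fun (mulR_s G' φ ψ _) a,
          fun a => RingHom.congr_fun (mulR_t G' φ ψ _) a⟩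
      tri := fun L _ φ ψ h₁ h₂ a => by
        have e₁ : pt (CommRingCat.ofHom φ) ≫ G'.s = pt (CommRingCat.ofHom ψ) ≫ G'.s :=
          (pt_eq_iff φ G'.s _ (ψ.comp G'.s.appTop.hom) (ptc ψ G'.s).symm).2 h₁
        have e₂ : pt (CommRingCat.ofHom φ) ≫ G'.t ≫ f.fU = pt (CommRingCat.ofHom ψ) ≫ G'.t ≫ f.fU := by
          refine (pt_eq_iff φ (G'.t ≫ f.fU) _ (ψ.comp (G'.t ≫ f.fU).appTop.hom) (ptc ψ _).symm).2 fun z => ?_
          rw [← appTop_comp_hom]
          exact h₂ z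
        exact (pt_eq_iff φ G'.t _ (ψ.comp G'.t.appTop.hom) (ptc ψ G'.t).symm).1 (tri_of_stab f hs hstab _ _ e₁ e₂) a }
  obtain ⟨het, hpo⟩ := etale_and_isPushout (C' := G'.invariants) H
    (fun a => ⟨fun e => ⟨⟨a, e⟩, rfl⟩, fun ⟨c, e⟩ => e ▸ c.2⟩) Subtype.val_injective
    (fun a => ⟨fun e => ⟨⟨a, e⟩, rfl⟩, fun ⟨c, e⟩ => e ▸ c.2⟩) Subtype.val_injective
    (fun p hp => by
      haveI := isIntegral_invariants G'
      obtain ⟨P, -, hP, hPp⟩ := Ideal.exists_ideal_over_prime_of_isIntegral p (⊥ : Ideal Γ(G'.U, ⊤)) (by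
        rw [← RingHom.ker_eq_comap_bot, (RingHom.injective_iff_ker_eq_bot _).1 Subtype.val_injective]
        exact bot_le)
      exact ⟨P, hP, hPp⟩)
  refine ⟨het, ?_⟩
  have sq₀ := isPullback_SpecMap_of_isPushout _ _ _ _
    (CommRingCat.isPushout_of_isPushout G.invariants G'.invariants Γ(G.U, ⊤) Γ(G'.U, ⊤))
  refine IsPullback.of_iso sq₀.flip G'.U.isoSpec.symm G.U.isoSpec.symm (Iso.refl _) (Iso.refl _) ?_ ?_ ?_ ?_
  · exact Scheme.isoSpec_inv_naturality f.fU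
  · show _ ≫ 𝟙 _ = G'.U.isoSpec.inv ≫ G'.U.toSpecΓ ≫ Spec.map _
    rw [Category.comp_id, Scheme.isoSpec_inv_toSpecΓ_assoc]
    rfl
  · show _ ≫ 𝟙 _ = G.U.isoSpec.inv ≫ G.U.toSpecΓ ≫ Spec.map _
    rw [Category.comp_id, Scheme.isoSpec_inv_toSpecΓ_assoc]
    rfl
  · simp only [Iso.refl_hom, Category.comp_id, Category.id_comp]

theorem eq_map (f : Grpd.GroupoidScheme.Hom G' G)
    (g : Spec (CommRingCat.of G'.invariants) ⟶ Spec (CommRingCat.of G.invariants))
    (hg : G'.toQuot ≫ g = f.fU ≫ G.toQuot) : g = Spec.map (CommRingCat.ofHom (invMap f)) := by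
  rw [← toQuot_map f] at hg
  obtain ⟨φ, rfl⟩ := Spec.map_surjective g
  refine congrArg Spec.map ?_
  change (G'.U.toSpecΓ ≫ Spec.map _) ≫ _ = (G'.U.toSpecΓ ≫ Spec.map _) ≫ _ at hg
  rw [Category.assoc, Category.assoc, cancel_epi, ← Spec.map_comp, ← Spec.map_comp] at hg
  ext c
  exact congr(($(Spec.map_injective hg)).hom c)

end Groth.Agent.EtGrpd19
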